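import Groth.Agent.S1026
import Groth.Agent.Ega3B.ChiFib
import Groth.Agent.Picfga.ChiBC
import Groth.Agent.Fga.EulerLEAdd

/-!
# Euler characteristics of geometric fibres

For `f : X ⟶ S` proper over a locally Noetherian `S` and `σ : Spec Ω ⟶ S` located at `s`, the Euler
characteristic in degrees `≤ d` (`d ≥ dim X_σ`) of the pullback of a quasi-coherent module to `X ×_S Spec Ω`
is `PerfAux.eulerChar f F s`; hence it is locally constant in `s` for `F` invertible and `f` flat.
-/

set_option autoImplicit false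
universe u
open CategoryTheory CategoryTheory.Limits AlgebraicGeometry Opposite TopologicalSpace

namespace Groth.Agent.Pic13.H967.ChiGeom

variable {X S : Scheme.{u}}

/-- A geometric point located at `s` factors through `Spec κ(s)`. -/
theorem exists_factor {Ω : Type u} [Field Ω] (σ : Spec (CommRingCat.of Ω) ⟶ S) (s : S)
    (hs : Set.range σ.base = {s}) :
    ∃ τ : Spec (CommRingCat.of Ω) ⟶ Spec (CommRingCat.of (S.residueField s)),
      τ ≫ S.fromSpecResidueField s = σ := by
  have h := (Scheme.SpecToEquivOfField Ω S).symm_apply_apply σ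
  generalize (Scheme.SpecToEquivOfField Ω S) σ = xf at h
  obtain ⟨x, φ⟩ := xf
  have hx : x = s := by
    have h1 : σ.base (IsLocalRing.closedPoint Ω) ∈ Set.range σ.base := ⟨_, rfl⟩
    rw [hs] at h1
    have h2 : σ.base (IsLocalRing.closedPoint Ω) = x := by
      rw [← h]
      exact S.fromSpecResidueField_apply x _
    exact h2.symm.trans h1
  subst hx
  exact ⟨Spec.map φ, h⟩

/-- The geometric fibre as a base change of the fibre. -/
theorem exists_isPullback (f : X ⟶ S) {Ω : Type u} [Field Ω] (σ : Spec (CommRingCat.of Ω) ⟶ S) (s : S)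
    (hs : Set.range σ.base = {s}) :
    ∃ (τ : Spec (CommRingCat.of Ω) ⟶ Spec (CommRingCat.of (S.residueField s)))
      (g : pullback f σ ⟶ f.fiber s), IsPullback g (pullback.snd f σ) (f.fiberToSpecResidueField s) τ ∧
        g ≫ f.fiberι s = pullback.fst f σ ∧ τ ≫ S.fromSpecResidueField s = σ := by
  obtain ⟨τ, hτ⟩ := exists_factor σ s hs
  have h1 : IsPullback (f.fiberι s) (f.fiberToSpecResidueField s) f (S.fromSpecResidueField s) :=
    IsPullback.of_hasPullback _ _
  have h2 : IsPullback (pullback.fst f σ) (pullback.snd f σ) f σ := IsPullback.of_hasPullback _ _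
  let g : pullback f σ ⟶ f.fiber s := h1.lift (pullback.fst f σ) (pullback.snd f σ ≫ τ)
    (by rw [Category.assoc, hτ]; exact h2.w)
  have hg1 : g ≫ f.fiberι s = pullback.fst f σ := h1.lift_fst _ _ _
  have hg2 : g ≫ f.fiberToSpecResidueField s = pullback.snd f σ ≫ τ := h1.lift_snd _ _ _
  refine ⟨τ, g, ?_, hg1, hτ⟩
  refine IsPullback.of_right (h₁₂ := f.fiberι s) (h₂₂ := S.fromSpecResidueField s) (v₁₃ := f) ?_ hg2 h1
  rw [hg1, hτ]
  exact h2

/-- Vanishing of cohomology descends along field extensions. -/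
theorem subsingleton_HH_of_pullback (k : Type u) [Field k] (X : Scheme.{u}) [X.Over (Spec (CommRingCat.of k))]
    [CompactSpace X] [QuasiSeparatedSpace X]
    (k' : Type u) [Field k'] (X' : Scheme.{u}) [X'.Over (Spec (CommRingCat.of k'))]
    (g : X' ⟶ X) (s : Spec (CommRingCat.of k') ⟶ Spec (CommRingCat.of k))
    (hpb : IsPullback g (X' ↘ Spec (CommRingCat.of k')) (X ↘ Spec (CommRingCat.of k)) s)
    (F : X.Modules) (hF : Coh.IsQCoh F) (i : ℕ)
    (h : Subsingleton (Coh.HH X' ((Scheme.Modules.pullback g).obj F) i)) :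
    Module.finrank k (Coh.HH X F i) = 0 := by
  obtain ⟨φ, rfl⟩ : ∃ φ, s = Spec.map φ := ⟨_, (Spec.map_preimage s).symm⟩
  let _ : Algebra k k' := φ.hom.toAlgebra
  obtain ⟨e⟩ := Groth.Agent.S0034.result k k' X X' g hpb F i
  rw [← Module.finrank_baseChange (R := k'), e.finrank_eq]
  exact Module.finrank_zero_of_subsingleton

/-- The Euler characteristic of the geometric fibre. -/
theorem eulerChar_geom (f : X ⟶ S) [IsProper f] {Ω : Type u} [Field Ω] (σ : Spec (CommRingCat.of Ω) ⟶ S)
    (s : S) (hs : Set.range σ.base = {s}) (F : X.Modules) (hF : Coh.IsQCoh F) (d : ℕ)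
    (hd : topologicalKrullDim ↑(pullback f σ) ≤ d) :
    @FGA.eulerCharLE Ω _ (pullback f σ) ⟨pullback.snd f σ⟩
      ((Scheme.Modules.pullback (pullback.fst f σ)).obj F) d = PerfAux.eulerChar f F s := by
  obtain ⟨τ, g, hpb, hg, hτ⟩ := exists_isPullback f σ s hs
  let F' := (Scheme.Modules.pullback (f.fiberι s)).obj F
  have hF' : Coh.IsQCoh F' := VarietyB.PullSec.isQCoh_pullback _ F hF
  let _ : (f.fiber s).Over (Spec (CommRingCat.of (S.residueField s))) := ⟨f.fiberToSpecResidueField s⟩
  let _ : (pullback f σ).Over (Spec (CommRingCat.of Ω)) := ⟨pullback.snd f σ⟩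
  have : IsProper (pullback.snd f σ) := inferInstance
  have hp : IsProper (f.fiberToSpecResidueField s) :=
    inferInstanceAs (IsProper (pullback.snd f (S.fromSpecResidueField s)))
  have : CompactSpace (f.fiber s) := QuasiCompact.compactSpace_of_compactSpace (f.fiberToSpecResidueField s)
  have : QuasiSeparatedSpace (f.fiber s) := quasiSeparatedSpace_of_quasiSeparated (f.fiberToSpecResidueField s)
  have hN : IsNoetherian (pullback f σ : Scheme.{u}) := by
    have h1 : IsLocallyNoetherian (pullback f σ : Scheme.{u}) :=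
      LocallyOfFiniteType.isLocallyNoetherian (pullback.snd f σ)
    have h2 : CompactSpace (pullback f σ : Scheme.{u}) :=
      QuasiCompact.compactSpace_of_compactSpace (pullback.snd f σ)
    exact ⟨⟩
  have e : (Scheme.Modules.pullback (pullback.fst f σ)).obj F ≅ (Scheme.Modules.pullback g).obj F' :=
    (Scheme.Modules.pullbackCongr hg.symm).app F ≪≫ ((Scheme.Modules.pullbackComp g (f.fiberι s)).app F).symm
  have h1 : FGA.eulerCharLE Ω (pullback f σ) ((Scheme.Modules.pullback (pullback.fst f σ)).obj F) d =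
      FGA.eulerCharLE Ω (pullback f σ) ((Scheme.Modules.pullback g).obj F') d :=
    Groth.Agent.Fga.EulerIso.eulerCharLE_congr Ω e d
  have h2 : FGA.eulerCharLE Ω (pullback f σ) ((Scheme.Modules.pullback g).obj F') d =
      FGA.eulerCharLE (S.residueField s) (f.fiber s) F' d :=
    Groth.Agent.Picfga.ChiBC.eulerCharLE_pullback (S.residueField s) (f.fiber s) Ω (pullback f σ) g τ hpb F' hF' d
  refine h1.trans (h2.trans ?_)
  unfold PerfAux.eulerChar FGA.eulerCharLE
  rw [finsum_eq_sum_of_support_subset (s := Finset.range (d + 1))]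
  · rfl
  · intro n hn
    by_contra hc
    have h3 : d < n := by
      have h5 : ¬ n < d + 1 := by simpa using hc
      omega
    have h4 : Subsingleton (Coh.HH (pullback f σ : Scheme.{u}) ((Scheme.Modules.pullback g).obj F') n) :=
      Groth.Agent.Fga.EulerLEAdd.subsingleton_HH _ d hd _ n h3
    apply hn
    have h5 : PerfAux.betti f F s n = 0 :=
      subsingleton_HH_of_pullback (S.residueField s) (f.fiber s) Ω (pullback f σ) g τ hpb F' hF' n h4
    simp only [h5, Nat.cast_zero, mul_zero]

/-- Local constancy. -/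
theorem isLocallyConstant_eulerChar [IsLocallyNoetherian S] (f : X ⟶ S) [IsProper f] [Flat f]
    {L : X.Modules} (hL : PicF.IsInvertible L) :
    IsLocallyConstant (fun s : S => PerfAux.eulerChar f L s) := by
  have : LocallyOfFinitePresentation f := inferInstance
  exact Groth.Agent.S1026.result f L (Groth.Agent.Ega3B.ChiFib.isFP_of_isInvertible hL)
    (Groth.Agent.Ega3B.ChiFib.isFlatOver_of_isInvertible f hL)

end Groth.Agent.Pic13.H967.ChiGeom
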