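import Groth.Agent.Pic13.H960.CurveLift
import Groth.Agent.Fga.DimLt

/-!
# Integral curves meeting a given open subset

On an integral scheme `X` locally of finite type over a field, of dimension `≥ 1`, every nonempty open subset contains
the generic point of an integral closed curve.
-/

set_option autoImplicit false
universe u
open CategoryTheory CategoryTheory.Limits AlgebraicGeometry TopologicalSpace

namespace Groth.Agent.Pic13.H967.CurveMeet

open Groth.Agent.CycB.RelDim Groth.Agent.Pic13.H960.CurveLift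

theorem dim_range {X Y : Scheme.{u}} (ι : Y ⟶ X) [IsClosedImmersion ι] :
    topologicalKrullDim (Set.range ι : Set X) = topologicalKrullDim Y :=
  (IsHomeomorph.topologicalKrullDim_eq _ ι.isClosedEmbedding.isEmbedding.toHomeomorph.isHomeomorph).symm

/-- The dimension of a nonempty open subscheme of an integral scheme locally of finite type over a field. -/
theorem dim_open (k : Type u) [Field k] {X : Scheme.{u}} [IsIntegral X] (p : X ⟶ Spec (CommRingCat.of k))
    [LocallyOfFiniteType p] (V : X.Opens) (hV : genericPoint X ∈ V) :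
    topologicalKrullDim V.toScheme = topologicalKrullDim X := by
  have : Nonempty V.toScheme := ⟨⟨_, hV⟩⟩
  have : IsIntegral V.toScheme := isIntegral_of_isOpenImmersion V.ι
  obtain ⟨m, hm, hm'⟩ := exists_dim_eq k (𝟙 V.toScheme) (V.ι ≫ p)
  obtain ⟨n, hn, hn'⟩ := exists_dim_eq k (𝟙 X) p
  have h1 : V.ι (genericPoint V.toScheme) = genericPoint X := genericPoint_eq_of_isOpenImmersion V.ι
  have h2 := rtd_comp V.ι p (genericPoint V.toScheme)
  rw [rtd_eq_zero_of_isPreimmersion V.ι, add_zero, h1] at h2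
  have h3 : (m : Cardinal.{u}) = n := by
    rw [← hm, ← hn]
    exact h2
  rw [hm', hn']
  have : m = n := by exact_mod_cast h3
  rw [this]

/-- On a scheme of dimension `≥ 2` there is a point which is neither closed nor generic. -/
theorem exists_middle {T : Type*} [TopologicalSpace T] [QuasiSober T] [T0Space T] [IrreducibleSpace T]
    (h : ((2 : ℕ) : WithBot ℕ∞) ≤ topologicalKrullDim T) :
    ∃ y z : T, y ⤳ z ∧ y ≠ z ∧ ¬ IsGenericPoint y (Set.univ : Set T) := by
  unfold topologicalKrullDim at h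
  rw [Order.le_krullDim_iff] at h
  obtain ⟨l, hl⟩ := h
  let Z₀ := l ⟨0, by omega⟩
  let Z₁ := l ⟨1, by omega⟩
  let Z₂ := l ⟨2, by omega⟩
  have h01 : Z₀ < Z₁ := l.strictMono (Fin.mk_lt_mk.mpr (by norm_num))
  have h12 : Z₁ < Z₂ := l.strictMono (Fin.mk_lt_mk.mpr (by norm_num))
  obtain ⟨y, hy⟩ := QuasiSober.sober Z₁.isIrreducible Z₁.isClosed
  obtain ⟨z, hz⟩ := QuasiSober.sober Z₀.isIrreducible Z₀.isClosed
  refine ⟨y, z, hy.specializes (h01.le hz.mem), ?_, ?_⟩
  · rintro rfl
    apply h01.ne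
    ext1
    exact hz.symm.trans hy
  · intro hyu
    have h1 : (Z₁ : Set T) = Set.univ := hy.symm.trans hyu
    apply h12.ne
    ext1
    refine Set.Subset.antisymm h12.le ?_
    rw [h1]
    exact Set.subset_univ _

theorem one_le_dim {Y : Scheme.{u}} [IsIntegral Y] {z : Y} (hz : z ≠ genericPoint Y) :
    ((1 : ℕ) : WithBot ℕ∞) ≤ topologicalKrullDim Y := by
  have h0 : (closure {z} : Set Y) ≠ Set.univ := by
    intro h
    apply hz
    exact (show IsGenericPoint z (Set.univ : Set Y) from h).eq (genericPoint_spec Y)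
  refine Fga.DimLt.exists_ltSeries_succ (n := 0) isClosed_closure h0 ?_
  have : Nonempty (closure {z} : Set Y) := ⟨⟨z, subset_closure rfl⟩⟩
  unfold topologicalKrullDim
  have : Nonempty (IrreducibleCloseds (closure {z} : Set Y)) :=
    ⟨⟨closure {⟨z, subset_closure rfl⟩}, isIrreducible_singleton.closure, isClosed_closure⟩⟩
  exact_mod_cast Order.krullDim_nonneg

/-- Descent step. -/
theorem exists_smaller (k : Type u) [Field k] {X : Scheme.{u}} [IsIntegral X] (p : X ⟶ Spec (CommRingCat.of k))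
    [LocallyOfFiniteType p] (n : ℕ) (hX : topologicalKrullDim X = ((n + 2 : ℕ) : WithBot ℕ∞)) (U : X.Opens)
    (hU : genericPoint X ∈ U) :
    ∃ (Y : Scheme.{u}) (i : Y ⟶ X) (_ : IsClosedImmersion i) (_ : IsIntegral Y) (m : ℕ), m ≤ n ∧
      topologicalKrullDim Y = ((m + 1 : ℕ) : WithBot ℕ∞) ∧ i (genericPoint Y) ∈ U := by
  have : Nonempty U.toScheme := ⟨⟨_, hU⟩⟩
  have : IsIntegral U.toScheme := isIntegral_of_isOpenImmersion U.ι
  have hdU := dim_open k p U hU
  obtain ⟨y, z, hyz, hne, hgen⟩ := exists_middle (T := U.toScheme) (by rw [hdU, hX]; exact_mod_cast Nat.le_add_left _ _)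
  obtain ⟨Y, i, hi, hY, hiY, hrange⟩ := Fga.IntegralSub.exists_integral_closed (U.ι y)
  obtain ⟨m, -, hm⟩ := exists_dim_eq k i p
  -- `dim Y ≥ 1`
  have hz : U.ι z ∈ Set.range i := by
    rw [hrange]
    exact (hyz.map U.ι.continuous).mem_closure
  obtain ⟨z', hz'⟩ := hz
  have hz'ne : z' ≠ genericPoint Y := by
    rintro rfl
    rw [hiY] at hz'
    exact hne (U.ι.isOpenEmbedding.injective hz')
  have h1 := one_le_dim hz'ne
  rw [hm] at h1
  have h1' : 1 ≤ m := by exact_mod_cast h1
  obtain ⟨m, rfl⟩ : ∃ m', m = m' + 1 := ⟨m - 1, by omega⟩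
  refine ⟨Y, i, hi, hY, m, ?_, hm, by rw [hiY]; exact y.2⟩
  -- `dim Y < dim X`
  by_contra hlt
  have h2 : ((n + 2 : ℕ) : WithBot ℕ∞) ≤ topologicalKrullDim (Set.range i : Set X) := by
    rw [dim_range, hm]
    have : n + 2 ≤ m + 1 := by omega
    exact_mod_cast this
  have h3 : (Set.range i : Set X) ≠ Set.univ := by
    intro h
    rw [hrange] at h
    apply hgen
    have h4 : U.ι y = genericPoint X := (show IsGenericPoint (U.ι y) (Set.univ : Set X) from h).eq (genericPoint_spec X)
    have h5 : U.ι (genericPoint U.toScheme) = genericPoint X := genericPoint_eq_of_isOpenImmersion U.ι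
    have h6 : y = genericPoint U.toScheme := U.ι.isOpenEmbedding.injective (h4.trans h5.symm)
    rw [h6]
    exact genericPoint_spec _
  have h4 := Fga.DimLt.exists_ltSeries_succ i.isClosedEmbedding.isClosed_range h3 h2
  rw [hX] at h4
  have : n + 2 + 1 ≤ n + 2 := by exact_mod_cast h4
  omega

/-- Every nonempty open subset contains the generic point of an integral closed curve. -/
theorem exists_curve_aux (k : Type u) [Field k] (n : ℕ) : ∀ {X : Scheme.{u}} [IsIntegral X]
    (p : X ⟶ Spec (CommRingCat.of k)) [LocallyOfFiniteType p]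
    (_ : topologicalKrullDim X = ((n + 1 : ℕ) : WithBot ℕ∞)) (U : X.Opens) (_ : genericPoint X ∈ U),
    ∃ (C : Scheme.{u}) (i : C ⟶ X) (_ : IsClosedImmersion i) (_ : IsIntegral C),
      topologicalKrullDim C = 1 ∧ i (genericPoint C) ∈ U := by
  induction n using Nat.strong_induction_on with
  | _ n ih =>
    intro X _ p _ hX U hU
    obtain rfl | ⟨n, rfl⟩ : n = 0 ∨ ∃ n', n = n' + 1 := by
      rcases n with _ | n
      · exact Or.inl rfl
      · exact Or.inr ⟨n, rfl⟩
    · exact ⟨X, 𝟙 X, inferInstance, inferInstance, by simpa using hX, hU⟩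
    · obtain ⟨Y, i, hi, hY, m, hm, hdim, hg⟩ := exists_smaller k p n hX U hU
      obtain ⟨C, j, hj, hC, hd, hgC⟩ := ih m (by omega) (i ≫ p) hdim (i ⁻¹ᵁ U) hg
      exact ⟨C, j ≫ i, inferInstance, hC, hd, hgC⟩

theorem exists_curve (k : Type u) [Field k] {X : Scheme.{u}} [IsIntegral X]
    (p : X ⟶ Spec (CommRingCat.of k)) [LocallyOfFiniteType p]
    (hX : 1 ≤ topologicalKrullDim X) (U : X.Opens) (hU : genericPoint X ∈ U) :
    ∃ (C : Scheme.{u}) (i : C ⟶ X) (_ : IsClosedImmersion i) (_ : IsIntegral C),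
      topologicalKrullDim C = 1 ∧ i (genericPoint C) ∈ U := by
  obtain ⟨n, -, hn⟩ := exists_dim_eq k (𝟙 X) p
  rw [hn] at hX
  have h1 : 1 ≤ n := by exact_mod_cast hX
  obtain ⟨n, rfl⟩ : ∃ m, n = m + 1 := ⟨n - 1, by omega⟩
  exact exists_curve_aux k n p hn U hU

end Groth.Agent.Pic13.H967.CurveMeet
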