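import Mathlib.AlgebraicGeometry.Geometrically.Integral
import Mathlib.RingTheory.Localization.FractionRing
import Mathlib.RingTheory.TensorProduct.MvPolynomial
import Mathlib.RingTheory.PolynomialAlgebra
import Mathlib.RingTheory.Flat.Stability

/-!
# The extension `k(t)/k` preserves integrality
-/

set_option autoImplicit false
universe u
open CategoryTheory CategoryTheory.Limits AlgebraicGeometry TensorProduct

namespace Groth.Agent.Pic13.H967.RatBase

/-- `k(t) ⊗ A` is a domain for every domain `A` over `k`. -/
theorem isDomain_tensor (k : Type u) [Field k] (k' : Type u) [Field k'] [Algebra k k']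
    [Algebra (Polynomial k) k'] [IsScalarTower k (Polynomial k) k'] [IsFractionRing (Polynomial k) k']
    (A : Type u) [CommRing A] [IsDomain A] [Algebra k A] : IsDomain (k' ⊗[k] A) := by
  let φ : (Polynomial k) ⊗[k] A →ₐ[k] k' ⊗[k] A :=
    Algebra.TensorProduct.map (IsScalarTower.toAlgHom k (Polynomial k) k') (AlgHom.id k A)
  have hφ : Function.Injective φ := by
    have h1 : Function.Injective (algebraMap (Polynomial k) k') := IsFractionRing.injective _ _
    exact Module.Flat.rTensor_preserves_injective_linearMap (M := A)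
      (IsScalarTower.toAlgHom k (Polynomial k) k').toLinearMap h1
  have hdom : IsDomain ((Polynomial k) ⊗[k] A) := by
    let e : A ⊗[k] (Polynomial k) ≃+* Polynomial A := (polyEquivTensor' k A).symm.toRingEquiv
    exact ((Algebra.TensorProduct.comm k (Polynomial k) A).toRingEquiv.trans e).toMulEquiv.isDomain _
  have key : ∀ z : k' ⊗[k] A, ∃ (f : Polynomial k) (a : (Polynomial k) ⊗[k] A), f ≠ 0 ∧
      (algebraMap (Polynomial k) k' f) • z = φ a := by
    intro z
    induction z using TensorProduct.induction_on with
    | zero => exact ⟨1, 0, one_ne_zero, by simp⟩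
    | tmul x a =>
      obtain ⟨p, q, hq, rfl⟩ := IsFractionRing.div_surjective (A := Polynomial k) x
      refine ⟨q, p ⊗ₜ a, nonZeroDivisors.ne_zero hq, ?_⟩
      have hq' : algebraMap (Polynomial k) k' q ≠ 0 := by
        rw [Ne, map_eq_zero_iff _ (IsFractionRing.injective (Polynomial k) k')]
        exact nonZeroDivisors.ne_zero hq
      rw [TensorProduct.smul_tmul', smul_eq_mul, mul_div_cancel₀ _ hq']
      simp [φ]
    | add x y hx hy =>
      obtain ⟨f, a, hf, ha⟩ := hx
      obtain ⟨g, b, hg, hb⟩ := hy
      refine ⟨f * g, (g ⊗ₜ 1) * a + (f ⊗ₜ 1) * b, mul_ne_zero hf hg, ?_⟩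
      have h1 : ∀ (h : Polynomial k) (c : (Polynomial k) ⊗[k] A),
          φ ((h ⊗ₜ 1) * c) = algebraMap (Polynomial k) k' h • φ c := by
        intro h c
        rw [map_mul, Algebra.smul_def]
        congr 1
      rw [map_add, h1, h1, ← ha, ← hb, smul_add, map_mul, smul_smul, smul_smul,
        mul_comm (algebraMap (Polynomial k) k' f)]
  have hnz : ∀ f : Polynomial k, f ≠ 0 → ∀ z : k' ⊗[k] A, algebraMap (Polynomial k) k' f • z = 0 → z = 0 := by
    intro f hf z hz
    have hf' : algebraMap (Polynomial k) k' f ≠ 0 := by
      rw [Ne, map_eq_zero_iff _ (IsFractionRing.injective (Polynomial k) k')]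
      exact hf
    rw [← one_smul k' z, ← inv_mul_cancel₀ hf', ← smul_smul, hz, smul_zero]
  have hnt : Nontrivial (k' ⊗[k] A) := hφ.nontrivial
  have : NoZeroDivisors (k' ⊗[k] A) := by
    refine ⟨fun {z w} hzw => ?_⟩
    obtain ⟨f, a, hf, ha⟩ := key z
    obtain ⟨g, b, hg, hb⟩ := key w
    have h1 : φ (a * b) = 0 := by
      rw [map_mul, ← ha, ← hb, smul_mul_smul_comm, hzw, smul_zero]
    have h2 : a * b = 0 := hφ (by rw [h1, map_zero])
    rcases mul_eq_zero.mp h2 with h3 | h3
    · left
      exact hnz f hf z (by rw [ha, h3, map_zero])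
    · right
      exact hnz g hg w (by rw [hb, h3, map_zero])
  exact NoZeroDivisors.to_isDomain _

/-- An extension of fields all of whose base changes to fields are domains is geometrically integral. -/
theorem geometricallyIntegral_of_isDomain (k : Type u) [Field k] (k' : Type u) [Field k'] [Algebra k k']
    (h : ∀ (K : Type u) [Field K] [Algebra k K], IsDomain (k' ⊗[k] K)) :
    GeometricallyIntegral (Spec.map (CommRingCat.ofHom (algebraMap k k'))) := by
  refine ⟨?_⟩
  rw [geometrically_iff_of_commRing]
  intro K _ _ Y fst snd hpb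
  have := h K
  have h1 : IsIntegral (Spec (CommRingCat.of (k' ⊗[k] K))) := inferInstance
  let e : Y ≅ Spec (CommRingCat.of (k' ⊗[k] K)) := hpb.isoPullback ≪≫ pullbackSpecIso k k' K
  have : Nonempty Y := ⟨e.inv.base (Nonempty.some inferInstance)⟩
  exact isIntegral_of_isOpenImmersion e.hom

/-- `k(t)/k` is geometrically integral. -/
theorem geometricallyIntegral_rat (k : Type u) [Field k] (k' : Type u) [Field k'] [Algebra k k']
    [Algebra (Polynomial k) k'] [IsScalarTower k (Polynomial k) k'] [IsFractionRing (Polynomial k) k'] :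
    GeometricallyIntegral (Spec.map (CommRingCat.ofHom (algebraMap k k'))) :=
  geometricallyIntegral_of_isDomain k k' fun K _ _ => isDomain_tensor k k' K

/-- Base change of an integral scheme, locally Noetherian, along a geometrically integral extension of fields. -/
theorem isIntegral_of_isPullback {k k' : Type u} [Field k] [Field k']
    (s : Spec (CommRingCat.of k') ⟶ Spec (CommRingCat.of k)) [GeometricallyIntegral s]
    {Y Y' : Scheme.{u}} (p : Y ⟶ Spec (CommRingCat.of k)) (p' : Y' ⟶ Spec (CommRingCat.of k')) (g : Y' ⟶ Y)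
    (h : IsPullback g p' p s) [IsIntegral Y] [IsLocallyNoetherian Y] : IsIntegral Y' := by
  have h0 : Flat s := inferInstance
  have h1 : IsIntegral (pullback p s) := inferInstance
  have : Nonempty Y' := ⟨h.isoPullback.inv.base (Nonempty.some inferInstance)⟩
  exact isIntegral_of_isOpenImmersion h.isoPullback.hom

end Groth.Agent.Pic13.H967.RatBase
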