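import Groth.Agent.Pic13.H967.IntBaseChange
import Groth.Agent.Pic13.H967.RatBase

/-!
# Base change of `Pic13.curveDeg` and of numerical triviality along a field extension
-/

set_option autoImplicit false
universe u
open CategoryTheory CategoryTheory.Limits AlgebraicGeometry Opposite TopologicalSpace
open Groth.Agent.Fdesc.LocGen Groth.Agent.Ega2

namespace Groth.Agent.Pic13.H967.DegBaseChange

theorem curveDeg_congr (k : Type u) [Field k] {Y : Scheme.{u}} (p : Y ⟶ Spec (CommRingCat.of k))
    {L L' : Y.Modules} (e : L ≅ L') : Pic13.curveDeg k p L = Pic13.curveDeg k p L' := by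
  let _ : Y.Over (Spec (CommRingCat.of k)) := ⟨p⟩
  unfold Pic13.curveDeg
  rw [Groth.Agent.Fga.EulerIso.eulerCharLE_congr k e 1]

/-- `χ(L) - χ(O)` is invariant under extension of the base field. -/
theorem curveDeg_pullback (k : Type u) [Field k] {Y : Scheme.{u}} (p : Y ⟶ Spec (CommRingCat.of k))
    [QuasiCompact p] [QuasiSeparated p]
    (k' : Type u) [Field k'] {Y' : Scheme.{u}} (p' : Y' ⟶ Spec (CommRingCat.of k'))
    (g : Y' ⟶ Y) (s : Spec (CommRingCat.of k') ⟶ Spec (CommRingCat.of k)) (hpb : IsPullback g p' p s)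
    (L : Y.Modules) (hL : Coh.IsQCoh L) :
    Pic13.curveDeg k' p' ((Scheme.Modules.pullback g).obj L) = Pic13.curveDeg k p L := by
  let _ : Y.Over (Spec (CommRingCat.of k)) := ⟨p⟩
  let _ : Y'.Over (Spec (CommRingCat.of k')) := ⟨p'⟩
  have h1 : CompactSpace Y := QuasiCompact.compactSpace_of_compactSpace p
  have h2 : QuasiSeparatedSpace Y := quasiSeparatedSpace_of_quasiSeparated p
  have h3 := Groth.Agent.Picfga.ChiBC.eulerCharLE_pullback k Y k' Y' g s hpb L hL 1
  have h4 := Groth.Agent.Picfga.ChiBC.eulerCharLE_pullback k Y k' Y' g s hpb (Coh.structureModule Y)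
    (Groth.Agent.Ega2.QCohLocal.isQCoh_of_isInvertible isInvertible_structureModule) 1
  obtain ⟨e⟩ := Groth.Agent.Ega3B.PullTensor.nonempty_pullUnitIso g
  have h5 := Groth.Agent.Fga.EulerIso.eulerCharLE_congr k' e 1
  unfold Pic13.curveDeg
  rw [h3, ← h5, h4]

section Num

variable (k : Type u) [Field k] (X : Scheme.{u}) [X.Over (Spec (CommRingCat.of k))]
    [IsProper (X ↘ Spec (CommRingCat.of k))]
    (k' : Type u) [Field k'] (X' : Scheme.{u}) [X'.Over (Spec (CommRingCat.of k'))]
    (g : X' ⟶ X) (s : Spec (CommRingCat.of k') ⟶ Spec (CommRingCat.of k))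
    (hpb : IsPullback g (X' ↘ Spec (CommRingCat.of k')) (X ↘ Spec (CommRingCat.of k)) s)

include hpb

/-- The base change of a closed curve: square, and equality of degrees. -/
theorem exists_curve {Y : Scheme.{u}} (i : Y ⟶ X) [IsClosedImmersion i] :
    ∃ (Y' : Scheme.{u}) (i' : Y' ⟶ X') (g' : Y' ⟶ Y), IsClosedImmersion i' ∧ IsPullback g' i' i g ∧
      IsPullback g' (i' ≫ (X' ↘ Spec (CommRingCat.of k'))) (i ≫ (X ↘ Spec (CommRingCat.of k))) s ∧
      topologicalKrullDim Y' = topologicalKrullDim Y ∧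
      ∀ L : X.Modules, Coh.IsQCoh L →
        Pic13.curveDeg k' (i' ≫ (X' ↘ Spec (CommRingCat.of k')))
          ((Scheme.Modules.pullback i').obj ((Scheme.Modules.pullback g).obj L)) =
        Pic13.curveDeg k (i ≫ (X ↘ Spec (CommRingCat.of k))) ((Scheme.Modules.pullback i).obj L) := by
  have hY' : IsPullback (pullback.snd g i) (pullback.fst g i) i g := (IsPullback.of_hasPullback g i).flip
  have h1 : IsPullback (pullback.snd g i) (pullback.fst g i ≫ (X' ↘ Spec (CommRingCat.of k')))
      (i ≫ (X ↘ Spec (CommRingCat.of k))) s := hY'.paste_vert hpb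
  refine ⟨pullback g i, pullback.fst g i, pullback.snd g i, inferInstance, hY', h1, ?_, ?_⟩
  · exact Groth.Agent.Etcore.DimBaseChange.topologicalKrullDim_eq (K := CommRingCat.of k) (L := CommRingCat.of k')
      (Field.toIsField k) (Field.toIsField k') (i ≫ (X ↘ Spec (CommRingCat.of k)))
      (pullback.fst g i ≫ (X' ↘ Spec (CommRingCat.of k'))) (pullback.snd g i) s h1
  · intro L hL
    have h2 := curveDeg_pullback k (i ≫ (X ↘ Spec (CommRingCat.of k))) k'
      (pullback.fst g i ≫ (X' ↘ Spec (CommRingCat.of k'))) (pullback.snd g i) s h1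
      ((Scheme.Modules.pullback i).obj L) (VarietyB.PullSec.isQCoh_pullback i L hL)
    rw [← h2]
    exact curveDeg_congr k' _ ((Scheme.Modules.pullbackComp _ _).app L ≪≫
      (Scheme.Modules.pullbackCongr hY'.w.symm).app L ≪≫ ((Scheme.Modules.pullbackComp _ _).app L).symm)

/-- Numerical triviality descends along an extension `k'/k` of the base field which preserves integrality (for
example `k' = k(t)`, or any `k'` if `k` is algebraically closed). -/
theorem isNumEquivZero_of_pullback [GeometricallyIntegral s] (L : X.Modules) (hL : Coh.IsQCoh L)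
    (h : Pic13.IsNumEquivZero k' X' ((Scheme.Modules.pullback g).obj L)) : Pic13.IsNumEquivZero k X L := by
  intro Y i _ hY hdim
  obtain ⟨Y', i', g', h1, h2, h3, h4, h5⟩ := exists_curve k X k' X' g s hpb i
  rw [← h5 L hL]
  have h6 : IsLocallyNoetherian Y := LocallyOfFiniteType.isLocallyNoetherian (i ≫ (X ↘ Spec (CommRingCat.of k)))
  exact h Y' i' (RatBase.isIntegral_of_isPullback s _ _ g' h3) (h4.trans hdim)

end Num

end Groth.Agent.Pic13.H967.DegBaseChange
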