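import Groth.Agent.Picfga.ChiBC
import Groth.Agent.Fga.HodgePush
import Groth.Agent.CohqB.PullTwist471
import Groth.Agent.Etcore.DimBaseChange
import Groth.Prelude.Def_Pic13

/-!
# Base change of intersection numbers and degrees along a field extension
-/

set_option autoImplicit false
universe u
open CategoryTheory CategoryTheory.Limits AlgebraicGeometry Opposite TopologicalSpace
open Groth.Agent.Fdesc.LocGen Groth.Agent.Ega2

namespace Groth.Agent.Pic13.H967.IntBaseChange

variable (k : Type u) [Field k] (X : Scheme.{u}) [X.Over (Spec (CommRingCat.of k))]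
    [CompactSpace X] [QuasiSeparatedSpace X]
    (k' : Type u) [Field k'] (X' : Scheme.{u}) [X'.Over (Spec (CommRingCat.of k'))]
    (g : X' ⟶ X) (s : Spec (CommRingCat.of k') ⟶ Spec (CommRingCat.of k))
    (hpb : IsPullback g (X' ↘ Spec (CommRingCat.of k')) (X ↘ Spec (CommRingCat.of k)) s)

include hpb

/-- Intersection numbers of invertible modules against a quasi-coherent module are invariant under extension of
the base field. -/
theorem intNum_pullback {r : ℕ} (M : Fin r → X.Modules) (hM : ∀ i, PicF.IsInvertible (M i))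
    (F : X.Modules) (hF : Coh.IsQCoh F) (d : ℕ) :
    FGA.intNum k' X' d (fun i => (Scheme.Modules.pullback g).obj (M i)) ((Scheme.Modules.pullback g).obj F) =
      FGA.intNum k X d M F := by
  unfold FGA.intNum
  refine Finset.sum_congr rfl fun I _ => ?_
  congr 1
  have hinv := Groth.Agent.Fga.HodgePush.isInvertible_word M hM I
  obtain ⟨e1⟩ := Groth.Agent.Fga.HodgePush.nonempty_pull_word g M hM I
  have hq : Coh.IsQCoh (CohB1.tensorMod (Groth.Agent.Fga.HodgePush.word M I) F) :=
    Groth.Agent.VarietyB.TensCoh.isQCoh_tensorMod (Groth.Agent.Fga.HodgePush.hasBases_of_isInvertible hinv) hF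
  rw [← Groth.Agent.Picfga.ChiBC.eulerCharLE_pullback k X k' X' g s hpb _ hq d]
  refine Groth.Agent.Fga.EulerIso.eulerCharLE_congr k' ?_ d
  exact Tens.mapTIso e1.symm (Iso.refl _) ≪≫
    (Groth.Agent.CohqB.PullTwist471.pullTensorIsoLeft g
      (Groth.Agent.CohqB.PullTwist471.hasBases_of_isInvertible hinv) F).symm

/-- The same against the structure module. -/
theorem intNum_pullback_structure {r : ℕ} (M : Fin r → X.Modules) (hM : ∀ i, PicF.IsInvertible (M i)) (d : ℕ) :
    FGA.intNum k' X' d (fun i => (Scheme.Modules.pullback g).obj (M i)) (Coh.structureModule X') =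
      FGA.intNum k X d M (Coh.structureModule X) := by
  rw [← intNum_pullback k X k' X' g s hpb M hM (Coh.structureModule X)
    (Groth.Agent.Ega2.QCohLocal.isQCoh_of_isInvertible isInvertible_structureModule) d]
  obtain ⟨e⟩ := Groth.Agent.Ega3B.PullTensor.nonempty_pullUnitIso g
  unfold FGA.intNum
  refine Finset.sum_congr rfl fun I _ => ?_
  congr 1
  exact Groth.Agent.Fga.EulerIso.eulerCharLE_congr k' (Tens.mapTIso (Iso.refl _) e.symm) d

end Groth.Agent.Pic13.H967.IntBaseChange
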