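import Groth.Agent.Pic13.H967.ChiGeom
import Groth.Agent.Ega3B.SerreTwist
import Groth.Agent.CohqA.ProjDim
import Groth.Prelude.Def_Pic13
import Mathlib.FieldTheory.IsAlgClosed.AlgebraicClosure

/-!
# The tau-trivial locus of a projective flat family with integral geometric fibres is closed

Conditional on S4305 and S4306 (over algebraically closed fields, `L` is tau-equivalent to zero if and only if
all `L^m ⊗ H^n` have the Euler characteristics of `H^n`).
-/

set_option autoImplicit false
universe u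
open CategoryTheory CategoryTheory.Limits AlgebraicGeometry Opposite TopologicalSpace
open Groth.Agent.Grpsch.PicGrp Groth.Agent.Fdesc.LocGen

namespace Groth.Agent.Pic13.H967.TauClosed

/-- Condition (v) of S4305/S4306. -/
def TwistsEq (k : Type u) [Field k] (X : Scheme.{u}) [X.Over (Spec (CommRingCat.of k))] (d : ℕ)
    (H H' L L' : X.Modules) : Prop :=
  ∀ m n : ℕ,
      FGA.eulerCharLE k X (CohB1.tensorMod (CohB1.tensorPow L m) (CohB1.tensorPow H n)) d = FGA.eulerCharLE k X (CohB1.tensorPow H n) d ∧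
      FGA.eulerCharLE k X (CohB1.tensorMod (CohB1.tensorPow L m) (CohB1.tensorPow H' n)) d = FGA.eulerCharLE k X (CohB1.tensorPow H' n) d ∧
      FGA.eulerCharLE k X (CohB1.tensorMod (CohB1.tensorPow L' m) (CohB1.tensorPow H n)) d = FGA.eulerCharLE k X (CohB1.tensorPow H n) d ∧
      FGA.eulerCharLE k X (CohB1.tensorMod (CohB1.tensorPow L' m) (CohB1.tensorPow H' n)) d = FGA.eulerCharLE k X (CohB1.tensorPow H' n) d

/-- The statement of S4305 and S4306 together. -/
def Criterion : Prop :=
  ∀ (k : Type u) [Field k] [IsAlgClosed k] (X : Scheme.{u})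
    [X.Over (Spec (CommRingCat.of k))] [IsProper (X ↘ Spec (CommRingCat.of k))] [IrreducibleSpace X]
    (d : ℕ) (_ : topologicalKrullDim X ≤ d) (H H' L L' : X.Modules) (_ : CohB1.IsAmple H) (_ : PicF.IsInvertible L)
    (_ : Nonempty (CohB1.tensorMod H H' ≅ Coh.structureModule X))
    (_ : Nonempty (CohB1.tensorMod L L' ≅ Coh.structureModule X)),
    Pic13.IsTauEquivZero k X L ↔ TwistsEq k X d H H' L L'

section Family

variable {X S : Scheme.{u}} (f : X ⟶ S)

/-- The locus where the Euler characteristics of two invertible modules agree is closed. -/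
theorem isClosed_eq [IsLocallyNoetherian S] [IsProper f] [Flat f] {M N : X.Modules}
    (hM : PicF.IsInvertible M) (hN : PicF.IsInvertible N) :
    IsClosed {s : S | PerfAux.eulerChar f M s = PerfAux.eulerChar f N s} := by
  have h1 := ChiGeom.isLocallyConstant_eulerChar f hM
  have h2 := ChiGeom.isLocallyConstant_eulerChar f hN
  have h4 := ((h1.sub h2).isClopen_fiber 0).isClosed
  convert h4 using 1
  ext t
  simp only [Set.mem_ofPred_eq, Pi.sub_apply, sub_eq_zero]

/-- The equalities of Euler characteristics of all twists on the fibre at `s`. -/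
def TwistsEqAt (H H' L L' : X.Modules) (s : S) : Prop :=
  ∀ m n : ℕ,
      PerfAux.eulerChar f (CohB1.tensorMod (CohB1.tensorPow L m) (CohB1.tensorPow H n)) s = PerfAux.eulerChar f (CohB1.tensorPow H n) s ∧
      PerfAux.eulerChar f (CohB1.tensorMod (CohB1.tensorPow L m) (CohB1.tensorPow H' n)) s = PerfAux.eulerChar f (CohB1.tensorPow H' n) s ∧
      PerfAux.eulerChar f (CohB1.tensorMod (CohB1.tensorPow L' m) (CohB1.tensorPow H n)) s = PerfAux.eulerChar f (CohB1.tensorPow H n) s ∧
      PerfAux.eulerChar f (CohB1.tensorMod (CohB1.tensorPow L' m) (CohB1.tensorPow H' n)) s = PerfAux.eulerChar f (CohB1.tensorPow H' n) s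

theorem isClosed_twistsEqAt [IsLocallyNoetherian S] [IsProper f] [Flat f] {H H' L L' : X.Modules}
    (hH : PicF.IsInvertible H) (hH' : PicF.IsInvertible H') (hL : PicF.IsInvertible L)
    (hL' : PicF.IsInvertible L') : IsClosed {s : S | TwistsEqAt f H H' L L' s} := by
  have h : {s : S | TwistsEqAt f H H' L L' s} = ⋂ (m : ℕ) (n : ℕ),
      (({s : S | PerfAux.eulerChar f (CohB1.tensorMod (CohB1.tensorPow L m) (CohB1.tensorPow H n)) s = PerfAux.eulerChar f (CohB1.tensorPow H n) s} ∩
      {s : S | PerfAux.eulerChar f (CohB1.tensorMod (CohB1.tensorPow L m) (CohB1.tensorPow H' n)) s = PerfAux.eulerChar f (CohB1.tensorPow H' n) s}) ∩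
      ({s : S | PerfAux.eulerChar f (CohB1.tensorMod (CohB1.tensorPow L' m) (CohB1.tensorPow H n)) s = PerfAux.eulerChar f (CohB1.tensorPow H n) s} ∩
      {s : S | PerfAux.eulerChar f (CohB1.tensorMod (CohB1.tensorPow L' m) (CohB1.tensorPow H' n)) s = PerfAux.eulerChar f (CohB1.tensorPow H' n) s})) := by
    ext s
    simp only [Set.mem_iInter, Set.mem_inter_iff, Set.mem_ofPred_eq, TwistsEqAt]
    constructor
    · intro h m n
      obtain ⟨h1, h2, h3, h4⟩ := h m n
      exact ⟨⟨h1, h2⟩, h3, h4⟩
    · intro h m n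
      obtain ⟨⟨h1, h2⟩, h3, h4⟩ := h m n
      exact ⟨h1, h2, h3, h4⟩
  rw [h]
  refine isClosed_iInter fun m => isClosed_iInter fun n => ?_
  refine ((isClosed_eq f ?_ ?_).inter (isClosed_eq f ?_ ?_)).inter
    ((isClosed_eq f ?_ ?_).inter (isClosed_eq f ?_ ?_)) <;>
  first
    | exact isInvertible_tensorMod (isInvertible_tensorPow hL m) (isInvertible_tensorPow hH n)
    | exact isInvertible_tensorMod (isInvertible_tensorPow hL m) (isInvertible_tensorPow hH' n)
    | exact isInvertible_tensorMod (isInvertible_tensorPow hL' m) (isInvertible_tensorPow hH n)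
    | exact isInvertible_tensorMod (isInvertible_tensorPow hL' m) (isInvertible_tensorPow hH' n)
    | exact isInvertible_tensorPow hH n
    | exact isInvertible_tensorPow hH' n

variable {f}

/-- Pullback commutes with the twists. -/
theorem nonempty_pull_pow {X' : Scheme.{u}} (p : X' ⟶ X) {H : X.Modules} (hH : PicF.IsInvertible H) (n : ℕ) :
    Nonempty ((Scheme.Modules.pullback p).obj (CohB1.tensorPow H n) ≅
      CohB1.tensorPow ((Scheme.Modules.pullback p).obj H) n) := by
  have h1 := isInvertible_tensorPow hH n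
  have h2 := isInvertible_pullback p hH
  refine (mk_eq_iff (isInvertible_pullback p h1) (isInvertible_tensorPow h2 n)).mp ?_
  calc mk _ (isInvertible_pullback p h1) = pull p (mk _ h1) := rfl
    _ = pull p (mk _ hH ^ n) := by rw [mk_tensorPow hH]
    _ = pull p (mk _ hH) ^ n := map_pow _ _ _
    _ = mk _ (isInvertible_tensorPow h2 n) := (mk_tensorPow h2 n).symm

theorem nonempty_pull_mul_pow {X' : Scheme.{u}} (p : X' ⟶ X) {L H : X.Modules} (hL : PicF.IsInvertible L)
    (hH : PicF.IsInvertible H) (m n : ℕ) :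
    Nonempty ((Scheme.Modules.pullback p).obj (CohB1.tensorMod (CohB1.tensorPow L m) (CohB1.tensorPow H n)) ≅
      CohB1.tensorMod (CohB1.tensorPow ((Scheme.Modules.pullback p).obj L) m)
        (CohB1.tensorPow ((Scheme.Modules.pullback p).obj H) n)) := by
  have h1 := isInvertible_tensorPow hH n
  have h2 := isInvertible_pullback p hH
  have h3 := isInvertible_tensorPow hL m
  have h4 := isInvertible_pullback p hL
  refine (mk_eq_iff (isInvertible_pullback p (isInvertible_tensorMod h3 h1))
    (isInvertible_tensorMod (isInvertible_tensorPow h4 m) (isInvertible_tensorPow h2 n))).mp ?_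
  calc mk _ (isInvertible_pullback p (isInvertible_tensorMod h3 h1)) = pull p (mk _ h3 * mk _ h1) := rfl
    _ = pull p (mk _ hL ^ m * mk _ hH ^ n) := by rw [mk_tensorPow hH, mk_tensorPow hL]
    _ = pull p (mk _ hL) ^ m * pull p (mk _ hH) ^ n := by rw [map_mul, map_pow, map_pow]
    _ = mk _ (isInvertible_tensorPow h4 m) * mk _ (isInvertible_tensorPow h2 n) := by
        rw [mk_tensorPow h2, mk_tensorPow h4]; rfl
    _ = mk _ (isInvertible_tensorMod (isInvertible_tensorPow h4 m) (isInvertible_tensorPow h2 n)) := rfl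

theorem nonempty_pull_inverse {X' : Scheme.{u}} (p : X' ⟶ X) {A B : X.Modules} (hA : PicF.IsInvertible A)
    (hB : PicF.IsInvertible B) (e : Nonempty (CohB1.tensorMod A B ≅ Coh.structureModule X)) :
    Nonempty (CohB1.tensorMod ((Scheme.Modules.pullback p).obj A) ((Scheme.Modules.pullback p).obj B) ≅
      Coh.structureModule X') := by
  refine (mk_eq_one_iff (isInvertible_tensorMod (isInvertible_pullback p hA) (isInvertible_pullback p hB))).mp ?_
  have h := (mk_eq_one_iff (isInvertible_tensorMod hA hB)).mpr e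
  calc mk _ (isInvertible_tensorMod (isInvertible_pullback p hA) (isInvertible_pullback p hB))
      = pull p (mk _ hA) * pull p (mk _ hB) := rfl
    _ = pull p (mk _ hA * mk _ hB) := (map_mul _ _ _).symm
    _ = 1 := by rw [mk_mul_mk, h, map_one]

section Geom

variable (f) [IsProper f] {Ω : Type u} [Field Ω] (σ : Spec (CommRingCat.of Ω) ⟶ S)
  (s : S) (hs : Set.range σ.base = {s}) (d : ℕ) (hd : topologicalKrullDim ↑(pullback f σ) ≤ d)

include hs hd

theorem chi_pow {H : X.Modules} (hH : PicF.IsInvertible H) (n : ℕ) :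
    @FGA.eulerCharLE Ω _ (pullback f σ) ⟨pullback.snd f σ⟩
      (CohB1.tensorPow ((Scheme.Modules.pullback (pullback.fst f σ)).obj H) n) d =
      PerfAux.eulerChar f (CohB1.tensorPow H n) s := by
  let _ : (pullback f σ).Over (Spec (CommRingCat.of Ω)) := ⟨pullback.snd f σ⟩
  obtain ⟨e⟩ := nonempty_pull_pow (pullback.fst f σ) hH n
  rw [← ChiGeom.eulerChar_geom f σ s hs _
    (Ega2.QCohLocal.isQCoh_of_isInvertible (isInvertible_tensorPow hH n)) d hd]
  exact (Groth.Agent.Fga.EulerIso.eulerCharLE_congr Ω e d).symm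

theorem chi_mul_pow {L H : X.Modules} (hL : PicF.IsInvertible L) (hH : PicF.IsInvertible H) (m n : ℕ) :
    @FGA.eulerCharLE Ω _ (pullback f σ) ⟨pullback.snd f σ⟩
      (CohB1.tensorMod (CohB1.tensorPow ((Scheme.Modules.pullback (pullback.fst f σ)).obj L) m)
        (CohB1.tensorPow ((Scheme.Modules.pullback (pullback.fst f σ)).obj H) n)) d =
      PerfAux.eulerChar f (CohB1.tensorMod (CohB1.tensorPow L m) (CohB1.tensorPow H n)) s := by
  let _ : (pullback f σ).Over (Spec (CommRingCat.of Ω)) := ⟨pullback.snd f σ⟩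
  obtain ⟨e⟩ := nonempty_pull_mul_pow (pullback.fst f σ) hL hH m n
  rw [← ChiGeom.eulerChar_geom f σ s hs _
    (Ega2.QCohLocal.isQCoh_of_isInvertible (isInvertible_tensorMod (isInvertible_tensorPow hL m)
      (isInvertible_tensorPow hH n))) d hd]
  exact (Groth.Agent.Fga.EulerIso.eulerCharLE_congr Ω e d).symm

theorem twistsEq_iff {H H' L L' : X.Modules} (hH : PicF.IsInvertible H) (hH' : PicF.IsInvertible H')
    (hL : PicF.IsInvertible L) (hL' : PicF.IsInvertible L') :
    @TwistsEq Ω _ (pullback f σ) ⟨pullback.snd f σ⟩ d ((Scheme.Modules.pullback (pullback.fst f σ)).obj H)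
        ((Scheme.Modules.pullback (pullback.fst f σ)).obj H')
        ((Scheme.Modules.pullback (pullback.fst f σ)).obj L)
        ((Scheme.Modules.pullback (pullback.fst f σ)).obj L') ↔ TwistsEqAt f H H' L L' s := by
  unfold TwistsEq TwistsEqAt
  refine forall_congr' fun m => forall_congr' fun n => ?_
  rw [chi_mul_pow f σ s hs d hd hL hH, chi_mul_pow f σ s hs d hd hL hH',
    chi_mul_pow f σ s hs d hd hL' hH, chi_mul_pow f σ s hs d hd hL' hH',
    chi_pow f σ s hs d hd hH, chi_pow f σ s hs d hd hH']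

end Geom

end Family

/-- Every point is the image of a geometric point. -/
theorem exists_geometric_point {S : Scheme.{u}} (s : S) :
    ∃ (Ω : Type u) (_ : Field Ω) (_ : IsAlgClosed Ω) (σ : Spec (CommRingCat.of Ω) ⟶ S), Set.range σ.base = {s} := by
  obtain ⟨τ⟩ : Nonempty (Spec (CommRingCat.of (AlgebraicClosure (S.residueField s))) ⟶
      Spec (CommRingCat.of (S.residueField s))) :=
    ⟨Spec.map (CommRingCat.ofHom (algebraMap (S.residueField s) (AlgebraicClosure (S.residueField s))))⟩
  have key : ∀ x, (τ ≫ S.fromSpecResidueField s).base x = s := fun x =>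
    S.fromSpecResidueField_apply s (τ.base x)
  refine ⟨AlgebraicClosure (S.residueField s), inferInstance, inferInstance,
    τ ≫ S.fromSpecResidueField s, ?_⟩
  refine Set.eq_singleton_iff_unique_mem.mpr ⟨⟨IsLocalRing.closedPoint _, key _⟩, ?_⟩
  rintro y ⟨x, rfl⟩
  exact key x

section Proj

variable {X S : Scheme.{u}} [IsLocallyNoetherian S] (n : ℕ)
    (i : X ⟶ CohB1.ProjSpaceOver n S) [IsClosedImmersion i] [Flat (i ≫ CohB1.ProjSpaceOver.toBase n S)]

theorem isProper_comp {S : Scheme.{u}} (n : ℕ) {X : Scheme.{u}}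
    (i : X ⟶ CohB1.ProjSpaceOver n S) [IsClosedImmersion i] : IsProper (i ≫ CohB1.ProjSpaceOver.toBase n S) := by
  have := Groth.Agent.Ega3B.ProjProper.isProper_toBase n S
  infer_instance

omit [IsLocallyNoetherian S] [Flat (i ≫ CohB1.ProjSpaceOver.toBase n S)] in
/-- dimension of the geometric fibres -/
theorem dim_le {Ω : Type u} [Field Ω] (σ : Spec (CommRingCat.of Ω) ⟶ S) :
    topologicalKrullDim ↑(pullback (i ≫ CohB1.ProjSpaceOver.toBase n S) σ) ≤ n := by
  obtain ⟨i', h1, -⟩ := Groth.Agent.Ega3B.SerreTwist.exists_immersion_baseChange n i σ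
    (IsPullback.of_hasPullback (i ≫ CohB1.ProjSpaceOver.toBase n S) σ)
  have e := (Groth.Agent.CohqB.ProjBC.projSpaceOverIso n Ω).hom.homeomorph
  exact ((i'.isClosedEmbedding.isInducing.topologicalKrullDim_le).trans
    e.isClosedEmbedding.isInducing.topologicalKrullDim_le).trans
    (Groth.Agent.CohqA.ProjDim.topologicalKrullDim_le Ω n)

/-- S4301, conditionally. -/
theorem isClosed_tauTrivialLocus (hC : Criterion.{u})
    (hint : ∀ (Ω : Type u) [Field Ω] [IsAlgClosed Ω] (σ : Spec (CommRingCat.of Ω) ⟶ S),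
      IsIntegral (pullback (i ≫ CohB1.ProjSpaceOver.toBase n S) σ))
    (L : X.Modules) (hL : PicF.IsInvertible L) :
    IsClosed {s : S | Pic13.IsTauTrivialAt (i ≫ CohB1.ProjSpaceOver.toBase n S) L s} := by
  let f := i ≫ CohB1.ProjSpaceOver.toBase n S
  have hf : IsProper f := isProper_comp n i
  let H := Groth.Agent.Ega3B.ProjFrame.lineOne n i
  have hH : PicF.IsInvertible H := Groth.Agent.Ega3B.ProjFrame.isInvertible_lineOne n i
  obtain ⟨H', hH', ⟨eH⟩⟩ := exists_inverse hH
  obtain ⟨L', hL', ⟨eL⟩⟩ := exists_inverse hL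
  have key : ∀ (Ω : Type u) [Field Ω] [IsAlgClosed Ω] (σ : Spec (CommRingCat.of Ω) ⟶ S) (s : S),
      Set.range σ.base = {s} →
      (@Pic13.IsTauEquivZero Ω _ (pullback f σ) ⟨pullback.snd f σ⟩
        ((Scheme.Modules.pullback (pullback.fst f σ)).obj L) ↔ TwistsEqAt f H H' L L' s) := by
    intro Ω _ _ σ s hs
    let _ : (pullback f σ).Over (Spec (CommRingCat.of Ω)) := ⟨pullback.snd f σ⟩
    have h1 : IsProper ((pullback f σ) ↘ (Spec (CommRingCat.of Ω))) :=
      inferInstanceAs (IsProper (pullback.snd f σ))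
    have h2 : IsIntegral (pullback f σ) := hint Ω σ
    have h3 : IrreducibleSpace ↑(pullback f σ) := inferInstance
    have hd := dim_le n i σ
    have hA : CohB1.IsAmple ((Scheme.Modules.pullback (pullback.fst f σ)).obj H) :=
      Groth.Agent.Ega3B.SerreTwist.isAmple_baseChange n i σ (IsPullback.of_hasPullback f σ)
    have eH1 := nonempty_pull_inverse (pullback.fst f σ) hH hH' ⟨eH⟩
    have eL1 := nonempty_pull_inverse (pullback.fst f σ) hL hL' ⟨eL⟩
    refine (hC Ω (pullback f σ) n hd _ _ _ _ hA (isInvertible_pullback _ hL) eH1 eL1).trans ?_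
    exact twistsEq_iff f σ s hs n hd hH hH' hL hL'
  have hset : {s : S | Pic13.IsTauTrivialAt f L s} = {s : S | TwistsEqAt f H H' L L' s} := by
    ext s
    simp only [Set.mem_ofPred_eq]
    constructor
    · intro h
      obtain ⟨Ω, _, _, σ, hs⟩ := exists_geometric_point s
      exact (key Ω σ s hs).mp (h Ω σ hs)
    · intro h Ω _ _ σ hs
      exact (key Ω σ s hs).mpr h
  have hfl : Flat f := inferInstanceAs (Flat (i ≫ CohB1.ProjSpaceOver.toBase n S))
  change IsClosed {s : S | Pic13.IsTauTrivialAt f L s}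
  rw [hset]
  exact isClosed_twistsEqAt f hH hH' hL hL'

end Proj

end Groth.Agent.Pic13.H967.TauClosed
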